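import Mathlib

set_option autoImplicit false
universe u

open TensorProduct

namespace Groth.Agent.H5.Conormal

/-- in a projective module over a reduced ring, an element killed, for every minimal prime `p`,
by some element outside `p`, is zero. -/
theorem eq_zero_of_forall_minimalPrimes {B M : Type*} [CommRing B] [IsReduced B] [AddCommGroup M]
    [Module B M] [Module.Projective B M] (x : M)
    (h : ∀ p ∈ minimalPrimes B, ∃ s : B, s ∉ p ∧ s • x = 0) : x = 0 := by
  obtain ⟨s, hs⟩ := Module.projective_def'.mp (inferInstance : Module.Projective B M)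
  have key : s x = 0 := by
    ext i
    rw [Finsupp.zero_apply]
    have hnil : (s x) i ∈ nilradical B := by
      rw [nilradical_eq_sInf, Ideal.mem_sInf]
      intro p hp
      haveI : p.IsPrime := hp
      obtain ⟨q, hq, hqp⟩ := Ideal.exists_minimalPrimes_le (bot_le : (⊥ : Ideal B) ≤ p)
      obtain ⟨t, htq, htx⟩ := h q hq
      have h1 : t * (s x) i = 0 := by
        have := congrArg (fun f => f i) (congrArg s htx)
        simpa using this
      have h2 : t * (s x) i ∈ q := by rw [h1]; exact zero_mem _
      exact hqp ((hq.1.1.mem_or_mem h2).resolve_left htq)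
    rw [nilradical_eq_zero B] at hnil
    exact hnil
  have := LinearMap.congr_fun hs x
  rw [LinearMap.comp_apply, key, map_zero] at this
  exact this.symm

theorem main {A B : Type u} [CommRing A] [CommRing B] [Algebra A B] [IsReduced B]
    (hsm : ∀ p : PrimeSpectrum B, p.asIdeal ∈ minimalPrimes B → Algebra.IsSmoothAt A p.asIdeal)
    (P : Algebra.Extension.{u} A B) [Module.Projective B P.Cotangent] :
    Function.Injective P.cotangentComplex := by
  rw [injective_iff_map_eq_zero]
  intro x hx
  obtain ⟨y, hy⟩ := Algebra.Extension.H1Cotangent.map_defaultHom_surjective P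
    (⟨x, hx⟩ : P.H1Cotangent)
  apply eq_zero_of_forall_minimalPrimes (B := B) x
  intro p hp
  haveI : p.IsPrime := hp.1.1
  haveI : Algebra.FormallySmooth A (Localization.AtPrime p) := hsm ⟨p, inferInstance⟩ hp
  have h0 : Algebra.H1Cotangent.map A A B (Localization.AtPrime p) y = 0 := Subsingleton.elim _ _
  obtain ⟨c, hc⟩ := (IsLocalizedModule.eq_zero_iff p.primeCompl
    (Algebra.H1Cotangent.map A A B (Localization.AtPrime p))).mp h0
  refine ⟨c.1, c.2, ?_⟩
  have hc' : (c : B) • y = 0 := hc
  have h1 : Algebra.Extension.H1Cotangent.map P.defaultHom ((c : B) • y) =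
      (c : B) • (⟨x, hx⟩ : P.H1Cotangent) := by
    rw [LinearMap.map_smul, hy]
    rfl
  rw [hc', map_zero] at h1
  have := congrArg Subtype.val h1
  exact this.symm

end Groth.Agent.H5.Conormal
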